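import Mathlib.RingTheory.ZariskisMainTheorem
import Mathlib.RingTheory.DedekindDomain.Basic
import Mathlib.RingTheory.Ideal.KrullsHeightTheorem

/-! Above a closed point of a closed fibre there is a closed point of the generic fibre. -/

set_option autoImplicit false
universe u

namespace Groth.L13.HorizontalPoint

/-- in a Noetherian ring: if every prime strictly between `⊥` and a prime `Q` of a domain contains `π`,
then there is no such prime -/
theorem no_between {B : Type u} [CommRing B] [IsDomain B] [IsNoetherianRing B] {π : B} (hπ : π ≠ 0)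
    {Q : Ideal B} [Q.IsPrime] (h : ∀ P : Ideal B, P.IsPrime → P ≤ Q → P ≠ ⊥ → π ∈ P)
    {P : Ideal B} (hP : P.IsPrime) (hPQ : P ≤ Q) (hP0 : P ≠ ⊥) : P = Q := by
  classical
  by_contra hne
  set S := (Ideal.span {π}).minimalPrimes
  have hfin : S.Finite := Ideal.finite_minimalPrimes_of_isNoetherianRing _ _
  have hS : ∀ m ∈ S, m.height ≤ 1 := fun m hm =>
    haveI := hm.1.1
    Ideal.height_le_one_of_isPrincipal_of_mem_minimalPrimes (Ideal.span {π}) m hm
  have hQS : ∀ m ∈ S, ¬ Q ≤ m := by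
    intro m hm hle
    haveI := hm.1.1
    obtain ⟨m', hm', hm'P⟩ := Ideal.exists_minimalPrimes_le
      ((Ideal.span_singleton_le_iff_mem _).mpr (h P hP hPQ hP0))
    haveI := hm'.1.1
    have h1 : m' < m := lt_of_lt_of_le (lt_of_le_of_lt hm'P (lt_of_le_of_ne hPQ hne)) hle
    exact h1.ne (le_antisymm h1.le (hm.2 hm'.1 h1.le))
  obtain ⟨g, hgQ, hg⟩ : ∃ g ∈ Q, ∀ m ∈ S, g ∉ m := by
    by_contra hall
    push Not at hall
    have hsub : (Q : Set B) ⊆ ⋃ m ∈ hfin.toFinset, (id m : Ideal B) := by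
      intro g hg
      obtain ⟨m, hm, hgm⟩ := hall g hg
      exact Set.mem_biUnion (by simpa using hm) hgm
    obtain ⟨m, hm, hle⟩ := (Ideal.subset_union_prime (f := id) Q Q
      (fun i hi _ _ => (hfin.mem_toFinset.mp hi).1.1)).mp hsub
    rw [Set.Finite.mem_toFinset] at hm
    exact hQS m hm hle
  obtain ⟨q, hq, hqQ⟩ := Ideal.exists_minimalPrimes_le ((Ideal.span_singleton_le_iff_mem _).mpr hgQ)
  haveI := hq.1.1
  have hgq : g ∈ q := (Ideal.span_singleton_le_iff_mem _).mp hq.1.2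
  have hg0 : g ≠ 0 := by
    rintro rfl
    obtain ⟨m, hm, -⟩ := Ideal.exists_minimalPrimes_le
      ((Ideal.span_singleton_le_iff_mem _).mpr (h P hP hPQ hP0))
    exact hg m hm m.zero_mem
  have hq0 : q ≠ ⊥ := fun e => hg0 (by rw [e] at hgq; exact hgq)
  obtain ⟨r, hr, hrq⟩ := Ideal.exists_minimalPrimes_le
    ((Ideal.span_singleton_le_iff_mem _).mpr (h q hq.1.1 hqQ hq0))
  haveI := hr.1.1
  have hr0 : r ≠ ⊥ := fun e => hπ (by
    have := (Ideal.span_singleton_le_iff_mem _).mp hr.1.2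
    rw [e] at this; exact this)
  have hlt : r < q := lt_of_le_of_ne hrq fun e => hg r hr (e ▸ hgq)
  have h1 := Ideal.height_le_one_of_isPrincipal_of_mem_minimalPrimes (Ideal.span {g}) q hq
  have h2 : r.height < q.height := Ideal.height_strict_mono_of_isPrime_of_isPrime hlt
  exact hr0 (Ideal.height_eq_zero_iff_eq_bot.mp (Order.lt_one_iff.mp (h2.trans_le h1)))

theorem exists_prime {R A : Type u} [CommRing R] [IsDedekindDomain R] [CommRing A] [Algebra R A]
    [Algebra.FiniteType R A] (Q : Ideal A) [Q.IsMaximal] (hq : Q.comap (algebraMap R A) ≠ ⊥)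
    (N : Ideal A) (hNp : N.IsPrime) (hNQ : N ≤ Q) (hN : N.comap (algebraMap R A) = ⊥) :
    ∃ P : Ideal A, P.IsPrime ∧ P ≤ Q ∧ P.comap (algebraMap R A) = ⊥ ∧
      ∃ g, g ∉ P ∧ ∀ P' : Ideal A, P'.IsPrime → P ≤ P' → P'.comap (algebraMap R A) = ⊥ → g ∉ P' → P' = P := by
  classical
  haveI : IsNoetherianRing A := Algebra.FiniteType.isNoetherianRing R A
  obtain ⟨π, hπq, hπ0⟩ := Submodule.exists_mem_ne_zero_of_ne_bot hq
  have hbot : ∀ J : Ideal A, J.IsPrime → J ≤ Q → algebraMap R A π ∉ J → J.comap (algebraMap R A) = ⊥ := by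
    intro J hJ hJQ hJπ
    by_contra hne
    have hJc : (J.comap (algebraMap R A)).IsPrime := Ideal.IsPrime.comap (algebraMap R A)
    have hQc : (Q.comap (algebraMap R A)).IsPrime := Ideal.IsPrime.comap (algebraMap R A)
    have hmax : (J.comap (algebraMap R A)).IsMaximal := Ideal.IsPrime.isMaximal hJc hne
    have heq := hmax.eq_of_le hQc.ne_top (Ideal.comap_mono hJQ)
    exact hJπ (heq ▸ hπq : π ∈ J.comap (algebraMap R A))
  obtain ⟨P, ⟨hPp, hPQ, hPπ⟩, hmax⟩ := (IsWellFounded.wf (r := fun a b : Ideal A => b < a)).has_min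
    {J : Ideal A | J.IsPrime ∧ J ≤ Q ∧ algebraMap R A π ∉ J}
    ⟨N, hNp, hNQ, fun h => hπ0 (by
      have : π ∈ N.comap (algebraMap R A) := h
      rw [hN] at this; exact this)⟩
  haveI := hPp
  have hP0 : P.comap (algebraMap R A) = ⊥ := hbot P hPp hPQ hPπ
  let B := A ⧸ P
  let Qb : Ideal B := Q.map (Ideal.Quotient.mk P)
  haveI : Qb.IsMaximal := (Ideal.map_eq_top_or_isMaximal_of_surjective _ Ideal.Quotient.mk_surjective ‹_›).resolve_left
    (fun h => by
      have := congrArg (Ideal.comap (Ideal.Quotient.mk P)) h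
      rw [Ideal.comap_top, Ideal.comap_map_of_surjective _ Ideal.Quotient.mk_surjective, ← RingHom.ker_eq_comap_bot,
        Ideal.mk_ker, sup_eq_left.mpr hPQ] at this
      exact Ideal.IsMaximal.ne_top ‹Q.IsMaximal› this)
  have hQb : Qb.comap (Ideal.Quotient.mk P) = Q := by
    rw [Ideal.comap_map_of_surjective _ Ideal.Quotient.mk_surjective, ← RingHom.ker_eq_comap_bot,
      Ideal.mk_ker, sup_eq_left.mpr hPQ]
  have hπB : algebraMap R B π ≠ 0 := by
    rw [IsScalarTower.algebraMap_apply R A B, Ideal.Quotient.algebraMap_eq, Ne, Ideal.Quotient.eq_zero_iff_mem]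
    exact hPπ
  have hπQ : algebraMap R B π ∈ Qb := by
    rw [IsScalarTower.algebraMap_apply R A B, Ideal.Quotient.algebraMap_eq]
    exact Ideal.mem_map_of_mem _ hπq
  have hall : ∀ J : Ideal B, J.IsPrime → J ≤ Qb → J ≠ ⊥ → algebraMap R B π ∈ J := by
    intro J hJ hJQ hJ0
    by_contra hJπ
    haveI := hJ
    refine hmax (J.comap (Ideal.Quotient.mk P)) ⟨inferInstance, ?_, hJπ⟩ (lt_of_le_of_ne ?_ ?_)
    · rw [← hQb]; exact Ideal.comap_mono hJQ
    · intro x hx
      rw [Ideal.mem_comap, (Ideal.Quotient.eq_zero_iff_mem.mpr hx : Ideal.Quotient.mk P x = 0)]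
      exact J.zero_mem
    · intro h
      apply hJ0
      rw [← Ideal.map_comap_of_surjective _ Ideal.Quotient.mk_surjective J, ← h, Ideal.map_quotient_self]
  haveI : IsNoetherianRing B := inferInstance
  haveI : Algebra.FiniteType R B := Algebra.FiniteType.of_surjective (Ideal.Quotient.mkₐ R P) Ideal.Quotient.mk_surjective
  let q : PrimeSpectrum B := ⟨Qb, inferInstance⟩
  have hmin : ∀ J : PrimeSpectrum B, J.comap (algebraMap R B) = q.comap (algebraMap R B) → J ≤ q → J = q := by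
    intro J hJ hle
    refine PrimeSpectrum.ext (no_between hπB hall J.2 hle ?_)
    intro h
    have h1 : π ∈ J.asIdeal.comap (algebraMap R B) := by
      rw [show J.asIdeal.comap (algebraMap R B) = Qb.comap (algebraMap R B) from congrArg PrimeSpectrum.asIdeal hJ]
      exact hπQ
    rw [Ideal.mem_comap, h] at h1
    exact hπB h1
  have hiso : IsOpen (X := .comap (algebraMap R B) ⁻¹' {q.comap (algebraMap R B)}) {⟨q, rfl⟩} := by
    let I := (Qb.comap (algebraMap R B)).map (algebraMap R B)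
    let M : Set (Ideal B) := {m | m ∈ I.minimalPrimes ∧ m ≠ Qb}
    have hM : M.Finite := (Ideal.finite_minimalPrimes_of_isNoetherianRing _ _).subset fun m hm => hm.1
    choose e he heQ using fun m : hM.toFinset => SetLike.not_le_iff_exists.mp (fun hle : m.1 ≤ Qb => by
      obtain ⟨hm, hmne⟩ := hM.mem_toFinset.mp m.2
      haveI := hm.1.1
      apply hmne
      refine congrArg PrimeSpectrum.asIdeal (hmin ⟨m.1, hm.1.1⟩ (PrimeSpectrum.ext (le_antisymm ?_ ?_)) hle)
      · exact Ideal.comap_mono hle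
      · exact Ideal.map_le_iff_le_comap.mp hm.1.2)
    rw [isOpen_induced_iff]
    refine ⟨PrimeSpectrum.basicOpen (∏ m, e m), (PrimeSpectrum.basicOpen _).isOpen, ?_⟩
    ext ⟨J, hJ⟩
    simp only [Set.mem_preimage, Set.mem_singleton_iff, Subtype.mk.injEq]
    change (∏ m, e m) ∉ J.asIdeal ↔ J = q
    constructor
    · intro hJg
      have hIJ : I ≤ J.asIdeal := by
        rw [Ideal.map_le_iff_le_comap]
        exact (congrArg PrimeSpectrum.asIdeal (hJ : J.comap (algebraMap R B) = _)).ge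
      obtain ⟨m, hm, hmJ⟩ := Ideal.exists_minimalPrimes_le hIJ
      by_cases hmQ : m = Qb
      · exact PrimeSpectrum.ext ((‹Qb.IsMaximal›.eq_of_le J.2.ne_top (hmQ ▸ hmJ)).symm)
      · exact absurd (Ideal.prod_mem (I := J.asIdeal) (i := ⟨m, hM.mem_toFinset.mpr ⟨hm, hmQ⟩⟩)
          (Finset.mem_univ _) (hmJ (he ⟨m, hM.mem_toFinset.mpr ⟨hm, hmQ⟩⟩))) hJg
    · rintro rfl h
      obtain ⟨m, -, hm⟩ := q.isPrime.prod_mem_iff.mp h
      exact heQ m hm
  haveI : Algebra.QuasiFiniteAt R q.asIdeal := Algebra.QuasiFiniteAt.of_isOpen_singleton_fiber q hiso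
  obtain ⟨r, hrQ, -, hr⟩ := Algebra.zariskisMainProperty_iff.mp (Algebra.ZariskisMainProperty.of_finiteType (R := R) q.asIdeal)
  obtain ⟨g, rfl⟩ := Ideal.Quotient.mk_surjective r
  refine ⟨P, hPp, hPQ, hP0, g, fun h => hrQ ?_, fun P' hP' hle hP'0 hg => ?_⟩
  · rw [Ideal.Quotient.eq_zero_iff_mem.mpr h]; exact zero_mem _
  · refine le_antisymm (fun x hx => ?_) hle
    by_contra hxP
    obtain ⟨m, hm⟩ := hr (Ideal.Quotient.mk P x)
    haveI := hP'
    haveI : (P'.map (Ideal.Quotient.mk P)).IsPrime :=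
      Ideal.map_isPrime_of_surjective Ideal.Quotient.mk_surjective (by rwa [Ideal.mk_ker])
    have hgP : g ∉ P := fun h => hg (hle h)
    have hne : Ideal.Quotient.mk P g ^ m * Ideal.Quotient.mk P x ≠ 0 := mul_ne_zero
      (pow_ne_zero _ fun h => hgP (Ideal.Quotient.eq_zero_iff_mem.mp h))
      fun h => hxP (Ideal.Quotient.eq_zero_iff_mem.mp h)
    refine Ideal.comap_ne_bot_of_integral_mem (I := P'.map (Ideal.Quotient.mk P)) hne
      (Ideal.mul_mem_left _ _ (Ideal.mem_map_of_mem _ hx)) hm ?_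
    rw [show algebraMap R B = (Ideal.Quotient.mk P).comp (algebraMap R A) from rfl, ← Ideal.comap_comap,
      Ideal.comap_map_of_surjective _ Ideal.Quotient.mk_surjective, ← RingHom.ker_eq_comap_bot, Ideal.mk_ker,
      sup_eq_left.mpr hle, hP'0]

end Groth.L13.HorizontalPoint
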